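import Groth.Agent.Lib.RegLoc.Basic
import Groth.Agent.Lib.VarDim.Alg
import Mathlib.RingTheory.AlgebraicIndependent.Basic
import Mathlib.RingTheory.Ideal.Cotangent
import Mathlib.Algebra.MvPolynomial.Equiv

/-!
# Injectivity on cotangent spaces at a regular point gives injectivity of local rings
-/

set_option autoImplicit false
set_option linter.style.haveILetI false

universe u

open IsLocalRing

namespace Groth.Agent.CotInj

/-- The members of a family are independent modulo the square of the maximal ideal. -/
def Indep {R : Type u} [CommRing R] [IsLocalRing R] {e : ℕ} (x : Fin e → R) : Prop :=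
  ∀ c : Fin e → R, ∑ i, c i * x i ∈ maximalIdeal R ^ 2 → ∀ i, c i ∈ maximalIdeal R

theorem aeval_injective (k : Type u) [Field k] :
    ∀ (e : ℕ) (R : Type u) [CommRing R] [IsRegularLocalRing R] [Algebra k R] (x : Fin e → R),
      (∀ i, x i ∈ maximalIdeal R) → Indep x → ∀ F : MvPolynomial (Fin e) k, MvPolynomial.aeval x F = 0 → F = 0
  | 0, R, _, _, _, x, _, _, F, hF => by
    have hC : F = MvPolynomial.C (F.coeff 0) := MvPolynomial.eq_C_of_isEmpty F
    rw [hC, MvPolynomial.aeval_C] at hF
    rw [hC, (injective_iff_map_eq_zero (algebraMap k R)).1 (algebraMap k R).injective _ hF, map_zero]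
  | e + 1, R, _, _, _, x, hx, hind, F, hF => by
    classical
    haveI := RegLoc.isDomain R
    have hx0 : x 0 ∉ maximalIdeal R ^ 2 := fun h => by
      have := hind (Pi.single 0 1) (by
        rw [Finset.sum_eq_single (0 : Fin (e + 1))]
        · simpa using h
        · intro b _ hb; simp [Pi.single_eq_of_ne hb]
        · simp) 0
      rw [Pi.single_eq_same] at this
      exact (maximalIdeal.isMaximal R).ne_top ((Ideal.eq_top_iff_one _).2 this)
    have hne : x 0 ≠ 0 := fun h => hx0 (h ▸ zero_mem _)
    obtain ⟨hS, -⟩ := RegLoc.quotient_span_singleton (hx 0) hx0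
    let I := Ideal.span ({x 0} : Set R)
    have hmap : (maximalIdeal R).map (Ideal.Quotient.mk I) = maximalIdeal (R ⧸ I) := by
      haveI : IsLocalHom (Ideal.Quotient.mk I) := IsLocalHom.of_surjective _ Ideal.Quotient.mk_surjective
      exact (RegLoc.maximalIdeal_quotient (R := R) (I := I)).symm
    let y : Fin e → R ⧸ I := fun i => Ideal.Quotient.mk I (x i.succ)
    have hy : ∀ i, y i ∈ maximalIdeal (R ⧸ I) := fun i => hmap ▸ Ideal.mem_map_of_mem _ (hx _)
    have hyind : Indep y := fun c hc => by
      choose d hd using fun i => Ideal.Quotient.mk_surjective (c i)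
      have hz : Ideal.Quotient.mk I (∑ i, d i * x i.succ) ∈ (maximalIdeal R ^ 2).map (Ideal.Quotient.mk I) := by
        rw [Ideal.map_pow, hmap, map_sum]
        simpa [y, hd] using hc
      rw [← Ideal.mem_comap, Ideal.comap_map_of_surjective _ Ideal.Quotient.mk_surjective,
        ← RingHom.ker_eq_comap_bot, Ideal.mk_ker, Submodule.mem_sup] at hz
      obtain ⟨a, ha, b, hb, hab⟩ := hz
      obtain ⟨r, rfl⟩ := Ideal.mem_span_singleton'.1 hb
      have key := hind (Fin.cons (-r) d) (by
        rw [Fin.sum_univ_succ]
        simp only [Fin.cons_zero, Fin.cons_succ]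
        rw [← hab]
        convert ha using 1
        ring)
      intro i
      rw [← hd i, ← hmap]
      exact Ideal.mem_map_of_mem _ (by simpa using key i.succ)
    let φ : MvPolynomial (Fin e) k →+* R := (MvPolynomial.aeval fun i : Fin e => x i.succ).toRingHom
    have hev : ∀ G : MvPolynomial (Fin (e + 1)) k,
        MvPolynomial.aeval x G = (MvPolynomial.finSuccEquiv k e G).eval₂ φ (x 0) := fun G => by
      have h : (MvPolynomial.aeval x).toRingHom =
          (Polynomial.eval₂RingHom φ (x 0)).comp (MvPolynomial.finSuccEquiv k e).toRingEquiv.toRingHom :=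
        MvPolynomial.ringHom_ext
          (fun c => by simp [φ, MvPolynomial.finSuccEquiv_apply])
          (fun i => by
            induction i using Fin.cases with
            | zero => simp [φ, MvPolynomial.finSuccEquiv_X_zero]
            | succ j => simp [φ, MvPolynomial.finSuccEquiv_X_succ])
      exact RingHom.congr_fun h G
    have main : ∀ (n : ℕ) (P : Polynomial (MvPolynomial (Fin e) k)), P.natDegree ≤ n →
        P.eval₂ φ (x 0) = 0 → P = 0 := by
      intro n
      induction n with
      | zero =>
        intro P hP h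
        rw [Polynomial.eq_C_of_natDegree_le_zero hP, Polynomial.eval₂_C] at h
        have h' : MvPolynomial.aeval y (P.coeff 0) = 0 := by
          rw [show y = fun i => Ideal.Quotient.mkₐ k I (x i.succ) from rfl, ← MvPolynomial.comp_aeval_apply]
          exact (congrArg (Ideal.Quotient.mk I) h).trans (map_zero _)
        rw [Polynomial.eq_C_of_natDegree_le_zero hP, aeval_injective k e _ y hy hyind _ h', map_zero]
      | succ n ih =>
        intro P hP h
        have hdec := Polynomial.divX_mul_X_add P
        rw [← hdec, Polynomial.eval₂_add, Polynomial.eval₂_mul_X, Polynomial.eval₂_C] at h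
        have h0 : P.coeff 0 = 0 := by
          refine aeval_injective k e _ y hy hyind _ ?_
          rw [show y = fun i => Ideal.Quotient.mkₐ k I (x i.succ) from rfl, ← MvPolynomial.comp_aeval_apply]
          refine Ideal.Quotient.eq_zero_iff_mem.2 (Ideal.mem_span_singleton'.2 ⟨-(P.divX.eval₂ φ (x 0)), ?_⟩)
          change -(Polynomial.eval₂ φ (x 0) P.divX) * x 0 = φ (P.coeff 0)
          linear_combination -h
        rw [h0, map_zero, add_zero] at h
        have h1 : P.divX = 0 := ih _ (by rw [Polynomial.natDegree_divX_eq_natDegree_tsub_one]; omega)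
          ((mul_eq_zero.1 h).resolve_right hne)
        rw [← hdec, h1, h0, zero_mul, map_zero, add_zero]
    exact (MvPolynomial.finSuccEquiv k e).injective
      ((main _ _ le_rfl ((hev F).symm.trans hF)).trans (map_zero _).symm)

/-- A local homomorphism into a regular local ring which is injective on cotangent spaces. -/
theorem injective_of_cotangent {k : Type u} [Field k] {A : Type u} [CommRing A] [IsDomain A] [Algebra k A]
    [Algebra.FiniteType k A] (M : Ideal A) [M.IsPrime] {L : Type u} [CommRing L] [Algebra A L]
    [IsLocalization.AtPrime L M] [IsLocalRing L] [IsNoetherianRing L]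
    {R : Type u} [CommRing R] [IsRegularLocalRing R] (f : L →+* R) [IsLocalHom f]
    (hres : Function.Surjective ((residue R).comp (f.comp ((algebraMap A L).comp (algebraMap k A)))))
    (hinj : ∀ a ∈ maximalIdeal L, f a ∈ maximalIdeal R ^ 2 → a ∈ maximalIdeal L ^ 2) :
    Function.Injective f := by
  classical
  let φ : A →+* R := f.comp (algebraMap A L)
  have hM : M = (maximalIdeal R).comap φ := by
    ext a
    rw [Ideal.mem_comap, ← IsLocalization.AtPrime.to_map_mem_maximal_iff L M a]
    exact ⟨fun h => map_nonunit f _ h, fun h hu => h (hu.map f)⟩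
  haveI hMmax : M.IsMaximal := by
    have h' : M = RingHom.ker ((residue R).comp φ) := by
      rw [hM, ← IsLocalRing.ker_residue, RingHom.comap_ker]
    rw [h']
    exact RingHom.ker_isMaximal_of_surjective _ fun z => by
      obtain ⟨c, hc⟩ := hres z
      exact ⟨algebraMap k A c, hc⟩
  let e := Module.finrank (ResidueField L) (CotangentSpace L)
  let b := Module.finBasis (ResidueField L) (CotangentSpace L)
  choose t ht using fun i => (maximalIdeal L).toCotangent_surjective (b i)
  choose as has using fun i => IsLocalization.surj M.primeCompl (t i).1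
  have ha : ∀ i, (as i).1 ∈ M := fun i => by
    rw [← IsLocalization.AtPrime.to_map_mem_maximal_iff L M, ← has i]
    exact Ideal.mul_mem_right _ _ (t i).2
  have hs : ∀ i, residue L (algebraMap A L (as i).2) ≠ 0 := fun i => by
    rw [residue_ne_zero_iff_isUnit]
    exact IsLocalization.map_units L (as i).2
  letI : Algebra k R := ((f.comp (algebraMap A L)).comp (algebraMap k A)).toAlgebra
  let φk : A →ₐ[k] R := { toRingHom := φ, commutes' := fun c => rfl }
  let x : Fin e → R := fun i => φ (as i).1
  have hxm : ∀ i, x i ∈ maximalIdeal R := fun i => by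
    exact (SetLike.ext_iff.1 hM _).1 (ha i)
  have hind : Indep x := fun c hc => by
    choose l hl using fun i => hres (residue R (c i))
    have hcl : ∀ i, c i - φ (algebraMap k A (l i)) ∈ maximalIdeal R := fun i =>
      Ideal.Quotient.eq.1 (hl i).symm
    let z : L := ∑ i, algebraMap A L (algebraMap k A (l i)) * algebraMap A L (as i).1
    have hz : z ∈ maximalIdeal L := Ideal.sum_mem _ fun i _ =>
      Ideal.mul_mem_left _ _ ((IsLocalization.AtPrime.to_map_mem_maximal_iff L M _).2 (ha i))
    have hfz : f z ∈ maximalIdeal R ^ 2 := by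
      have : f z = ∑ i, c i * x i - ∑ i, (c i - φ (algebraMap k A (l i))) * x i := by
        rw [← Finset.sum_sub_distrib, map_sum]
        refine Finset.sum_congr rfl fun i _ => ?_
        rw [map_mul]
        simp only [x, φ, RingHom.comp_apply]
        ring
      rw [this, sq]
      exact sub_mem (sq (maximalIdeal R) ▸ hc)
        (Ideal.sum_mem _ fun i _ => Ideal.mul_mem_mul (hcl i) (hxm i))
    have h0 : ∑ i, residue L (algebraMap A L (algebraMap k A (l i)) * algebraMap A L (as i).2) • b i = 0 := by
      have := ((maximalIdeal L).toCotangent_eq_zero ⟨z, hz⟩).2 (hinj z hz hfz)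
      rw [← this, show (⟨z, hz⟩ : maximalIdeal L) =
        ∑ i, (algebraMap A L (algebraMap k A (l i)) * algebraMap A L (as i).2) • t i from Subtype.ext ?_, map_sum]
      · refine Finset.sum_congr rfl fun i _ => ?_
        rw [map_smul, ht i]
        rfl
      · simp only [z, AddSubmonoidClass.coe_finsetSum, Submodule.coe_smul, smul_eq_mul]
        refine Finset.sum_congr rfl fun i _ => ?_
        rw [← has i]
        ring
    intro i
    have hi := Fintype.linearIndependent_iff.1 b.linearIndependent _ h0 i
    rw [map_mul, mul_eq_zero, or_iff_left (hs i)] at hi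
    have hl0 : l i = 0 := by
      by_contra hne
      have hu : IsUnit (algebraMap A L (algebraMap k A (l i))) :=
        ((IsUnit.mk0 _ hne).map (algebraMap k A)).map _
      exact (residue_ne_zero_iff_isUnit _).2 hu hi
    have := hcl i
    rwa [hl0, map_zero, map_zero, sub_zero] at this
  have hai : AlgebraicIndependent k x := (injective_iff_map_eq_zero _).2 (aeval_injective k e R x hxm hind)
  haveI := RegLoc.isDomain R
  let q : PrimeSpectrum A := ⟨RingHom.ker φ, RingHom.ker_isPrime φ⟩
  haveI : q.asIdeal.IsPrime := q.2
  haveI : IsDomain (A ⧸ q.asIdeal) := Ideal.Quotient.isDomain _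
  have hq : (RingHom.ker φ) = ⊥ := by
    by_contra hne
    have hai' : AlgebraicIndependent k fun i => Ideal.Quotient.mkₐ k q.asIdeal (as i).1 := by
      refine AlgebraicIndependent.of_comp (Ideal.Quotient.liftₐ q.asIdeal φk fun a ha => ha) ?_
      exact hai
    have h1 : e ≤ VarDim.tdeg k (A ⧸ q.asIdeal) := by
      have := hai'.lift_cardinalMk_le_trdeg
      rw [VarDim.trdeg_eq_tdeg k (A ⧸ q.asIdeal), Cardinal.mk_fin, Cardinal.lift_natCast, Cardinal.lift_natCast] at this
      exact_mod_cast this
    have h2 : (VarDim.tdeg k A : ℕ∞) ≤ (e : ℕ∞) := by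
      have hh := VarDim.height_add_coheight_nat k A ⟨M, inferInstance⟩
      have hco : Order.coheight (⟨M, inferInstance⟩ : PrimeSpectrum A) = 0 :=
        Order.coheight_eq_zero.2 fun p hp => (le_of_eq (PrimeSpectrum.ext (hMmax.eq_of_le p.2.ne_top hp)).symm)
      rw [hco, add_zero] at hh
      rw [← hh]
      have hd : ringKrullDim L ≤ (e : WithBot ℕ∞) := by
        refine (ringKrullDim_le_spanFinrank_maximalIdeal L).trans ?_
        rw [IsLocalRing.spanFinrank_maximalIdeal_eq_finrank_cotangentSpace]
      rw [IsLocalization.AtPrime.ringKrullDim_eq_height M L,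
        show M.height = Order.height (⟨M, inferInstance⟩ : PrimeSpectrum A) from PrimeSpectrum.height_eq_orderHeight ⟨M, inferInstance⟩] at hd
      exact_mod_cast hd
    have h3 := VarDim.height_add_coheight_nat k A q
    rw [VarDim.coheight_eq_tdeg k A q] at h3
    have h4 : 1 ≤ Order.height q := by
      rw [Order.one_le_iff_ne_zero, Ne, Order.height_eq_zero]
      intro hmin
      have hle : (⊥ : PrimeSpectrum A) ≤ q := bot_le
      exact hne (congrArg PrimeSpectrum.asIdeal (le_antisymm (hmin hle) hle))
    have : (e : ℕ∞) + 1 ≤ (e : ℕ∞) := calc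
      (e : ℕ∞) + 1 ≤ (VarDim.tdeg k (A ⧸ q.asIdeal) : ℕ∞) + Order.height q :=
        add_le_add (by exact_mod_cast h1) h4
      _ = (VarDim.tdeg k A : ℕ∞) := by rw [add_comm, h3]
      _ ≤ e := h2
    exact absurd (this) (by exact_mod_cast Nat.not_succ_le_self e)
  rw [injective_iff_map_eq_zero]
  intro z hz
  obtain ⟨⟨a, s⟩, rfl⟩ := IsLocalization.mk'_surjective M.primeCompl z
  have hA : φ a = 0 := by
    have := congrArg f (IsLocalization.mk'_spec L a s)
    rw [map_mul, hz, zero_mul] at this
    exact this.symm
  have : a ∈ RingHom.ker φ := hA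
  rw [hq, Ideal.mem_bot] at this
  rw [this]
  exact IsLocalization.mk'_zero _

end Groth.Agent.CotInj
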